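import Mathlib
import Groth.Prelude
import Groth.Agent.Lib.Helper7.CohStalk.Finite
import Groth.Agent.Lib.Helper8.ABS19
import Groth.Agent.Lib.Helper8.ABS15
import Groth.Agent.Lib.Helper8.ABS9
import Groth.Agent.Lib.Helper8.RegularLocal

set_option linter.style.haveILetI false
set_option linter.unusedVariables false
set_option linter.unusedSectionVars false
set_option autoImplicit false
set_option backward.isDefEq.respectTransparency.types false
set_option synthInstance.maxHeartbeats 400000
set_option maxHeartbeats 800000

universe u

/-! helper7: rectified depth plus projective dimension equals the dimension on regular biequidimensional schemes (Auslander-Buchsbaum); generizations of a point with integral local ring -/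

open CategoryTheory CategoryTheory.Limits AlgebraicGeometry TopologicalSpace
open Groth.Agent.Helper7.FinType

namespace Groth.Agent.Helper7.RectDepth

/-- Auslander–Buchsbaum over a regular local ring, in terms of the Krull dimension. -/
theorem depth_add_pd_eq_dim (A : Type u) [CommRing A] [IsRegularLocalRing A] (M : Type u)
    [AddCommGroup M] [Module A M] [Module.Finite A M] [Nontrivial M] :
    ((LocCoh.depth A M : ℕ∞) : WithBot ℕ∞) + projectiveDimension (ModuleCat.of A M) =
      ringKrullDim A := by
  obtain ⟨N, hN, hlt⟩ := Groth.Agent.Helper8.ABS.exists_hasProjectiveDimensionLT_of_regular A M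
  obtain ⟨e, -, he⟩ := Groth.Agent.Helper8.ABS.exists_projectiveDimension_eq M N hlt
  have hab := Groth.Agent.Helper8.ABS.auslander_buchsbaum A M e he
  rw [he, ← Groth.Agent.Helper8.ABS.depth_eq_dim_of_regular A, hab]
  push_cast
  rw [add_comm]

/-- The generizations of a point with integral local ring have the dimension of the local ring,
and all lie in one irreducible component. -/
theorem exists_component (X : Scheme.{u}) (x : X) [IsDomain (X.presheaf.stalk x)] :
    ∃ T : Set X, T ∈ irreducibleComponents X ∧ x ∈ T ∧
      topologicalKrullDim ↥{t : X | t ∈ T ∧ t ⤳ x} = ringKrullDim (X.presheaf.stalk x) := by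
  let η : X := (X.fromSpecStalk x) ⟨⊥, Ideal.isPrime_bot⟩
  have hgen : ∀ t : X, t ⤳ x → t ∈ irreducibleComponent η := by
    intro t ht
    have ht' : t ∈ Set.range (X.fromSpecStalk x) := by
      rw [Scheme.range_fromSpecStalk]; exact ht
    obtain ⟨q, rfl⟩ := ht'
    have h1 : (⟨⊥, Ideal.isPrime_bot⟩ : PrimeSpectrum (X.presheaf.stalk x)) ⤳ q := by
      rw [← PrimeSpectrum.le_iff_specializes]
      exact bot_le
    have h2 : η ⤳ (X.fromSpecStalk x) q := h1.map (X.fromSpecStalk x).continuous
    have h3 : (X.fromSpecStalk x) q ∈ closure {η} := specializes_iff_mem_closure.mp h2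
    exact (isClosed_irreducibleComponent.closure_subset_iff.mpr
      (Set.singleton_subset_iff.mpr mem_irreducibleComponent)) h3
  refine ⟨irreducibleComponent η, irreducibleComponent_mem_irreducibleComponents η,
    hgen x specializes_rfl, ?_⟩
  have hset : {t : X | t ∈ irreducibleComponent η ∧ t ⤳ x} = Set.range (X.fromSpecStalk x) := by
    rw [Scheme.range_fromSpecStalk]
    ext t
    exact ⟨fun h => h.2, fun h => ⟨hgen t h, h⟩⟩
  rw [hset]
  have hemb : Topology.IsEmbedding (X.fromSpecStalk x) := (X.fromSpecStalk x).isEmbedding
  rw [← IsHomeomorph.topologicalKrullDim_eq _ hemb.toHomeomorph.isHomeomorph]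
  exact PrimeSpectrum.topologicalKrullDim_eq_ringKrullDim _

/-- Rectified depth plus projective dimension is the dimension, on a regular biequidimensional
scheme. -/
theorem main (X : Scheme.{u}) [IsNoetherian X]
    (hreg : ∀ x : X, IsRegularLocalRing ↑(X.presheaf.stalk x))
    (hcomp : ∀ C ∈ irreducibleComponents (X : Type u),
      topologicalKrullDim ↥C = topologicalKrullDim X)
    (hchain : ∀ (y : X) (T : Set X), IsClosed T → IsIrreducible T → y ∈ T →
      topologicalKrullDim ↥T = topologicalKrullDim ↥(closure ({y} : Set X)) +
        topologicalKrullDim ↥{t : X | t ∈ T ∧ t ⤳ y})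
    (F : X.Modules) (hF : Coh.IsCoh F) (x : X) (hx : x ∈ CohB1.support F) :
    ((LocCoh.depth ↑(X.presheaf.stalk x) ↑(F.presheaf.stalk x) : ℕ∞) : WithBot ℕ∞) +
        topologicalKrullDim ↥(closure ({x} : Set X)) +
        projectiveDimension (ModuleCat.of ↑(X.presheaf.stalk x) ↑(F.presheaf.stalk x)) =
      topologicalKrullDim X := by
  haveI := hreg x
  haveI : IsDomain (X.presheaf.stalk x) := Groth.Agent.Helper8.RLR.isDomain _
  haveI : Module.Finite (X.presheaf.stalk x) (F.presheaf.stalk x) := stalk_finite_of_isCoh F hF x
  haveI : Nontrivial (F.presheaf.stalk x) := not_subsingleton_iff_nontrivial.mp hx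
  obtain ⟨T, hT, hxT, hdim⟩ := exists_component X x
  have h1 := hchain x T (isClosed_of_mem_irreducibleComponents T hT) hT.1 hxT
  rw [hdim, hcomp T hT] at h1
  rw [add_right_comm, depth_add_pd_eq_dim, h1, add_comm]

end Groth.Agent.Helper7.RectDepth
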