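import Mathlib
import Groth.Prelude
import Groth.Agent.Lib.Helper7.RectDepth.Main
import Groth.Agent.Lib.Helper4.CohHartogs1
import Groth.Agent.Lib.Helper8.ABS23
import Groth.Agent.Lib.Helper8.Depth3

set_option linter.style.haveILetI false
set_option linter.unusedVariables false
set_option linter.unusedSectionVars false
set_option autoImplicit false
set_option backward.isDefEq.respectTransparency.types false
set_option synthInstance.maxHeartbeats 400000
set_option maxHeartbeats 800000

universe u

/-! helper7: helper7: lower semicontinuity of the rectified depth on regular biequidimensional schemes via openness of loci of bounded projective dimension -/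

open CategoryTheory CategoryTheory.Limits AlgebraicGeometry TopologicalSpace
open Groth.Agent.Helper7.FinType

namespace Groth.Agent.Helper7.RectDepth

theorem nat_of_add_eq2 (a b : WithBot ℕ∞) (n : ℕ) (h : a + b = (n : WithBot ℕ∞)) :
    ∃ a' b' : ℕ, a = (a' : WithBot ℕ∞) ∧ b = (b' : WithBot ℕ∞) ∧ a' + b' = n := by
  induction a using WithBot.recBotCoe with
  | bot => rw [WithBot.bot_add] at h; exact absurd h.symm (WithBot.natCast_ne_bot n)
  | coe a =>
    induction b using WithBot.recBotCoe with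
    | bot => rw [WithBot.add_bot] at h; exact absurd h.symm (WithBot.natCast_ne_bot n)
    | coe b =>
      have h' : a + b = (n : ℕ∞) := by
        have : ((a + b : ℕ∞) : WithBot ℕ∞) = ((n : ℕ∞) : WithBot ℕ∞) := by
          rw [WithBot.coe_add, WithBot.coe_natCast]; exact h
        exact WithBot.coe_inj.mp this
      have ha : a ≠ ⊤ := by
        rintro rfl; rw [top_add] at h'; exact ENat.top_ne_natCast n h'
      have hb : b ≠ ⊤ := by
        rintro rfl; rw [add_top] at h'; exact ENat.top_ne_natCast n h'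
      obtain ⟨a', rfl⟩ := ENat.ne_top_iff_exists.mp ha
      obtain ⟨b', rfl⟩ := ENat.ne_top_iff_exists.mp hb
      refine ⟨a', b', rfl, rfl, ?_⟩
      exact_mod_cast h'

theorem point_iff (A : Type u) [CommRing A] [IsRegularLocalRing A] (N : Type u)
    [AddCommGroup N] [Module A N] [Module.Finite A N] (c : WithBot ℕ∞) (d n : ℕ)
    (hc : c + ringKrullDim A = (d : WithBot ℕ∞)) :
    (n : WithBot ℕ∞) ≤ ((LocCoh.depth A N : ℕ∞) : WithBot ℕ∞) + c ↔
      Subsingleton N ∨ (n ≤ d ∧
        projectiveDimension (ModuleCat.of A N) ≤ ((d - n : ℕ) : WithBot ℕ∞)) := by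
  obtain ⟨c', r', rfl, hr, hcr⟩ := nat_of_add_eq2 _ _ _ hc
  rcases subsingleton_or_nontrivial N with hN | hN
  · constructor
    · intro _; exact Or.inl hN
    · intro _
      rw [Groth.Agent.Helper8.Depth.depth_eq_top_of_subsingleton A N]
      have h1 : (((⊤ : ℕ∞) : WithBot ℕ∞)) + ((c' : ℕ) : WithBot ℕ∞) = ((⊤ : ℕ∞) : WithBot ℕ∞) := by
        rw [← WithBot.coe_natCast, ← WithBot.coe_add, top_add]
      rw [h1, ← WithBot.coe_natCast]
      exact WithBot.coe_le_coe.mpr le_top
  · have hab := depth_add_pd_eq_dim A N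
    rw [hr] at hab
    obtain ⟨e', p', he, hp, hep⟩ := nat_of_add_eq2 _ _ _ hab
    rw [he, hp]
    have hns : ¬ Subsingleton N := not_subsingleton_iff_nontrivial.mpr hN
    constructor
    · intro h
      right
      have h1 : n ≤ e' + c' := by exact_mod_cast h
      refine ⟨by omega, ?_⟩
      have h2 : p' ≤ d - n := by omega
      exact_mod_cast h2
    · rintro (h | ⟨h1, h2⟩)
      · exact absurd h hns
      · have h3 : p' ≤ d - n := by exact_mod_cast h2
        have h4 : n ≤ e' + c' := by omega
        exact_mod_cast h4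

theorem isOpen_main (X : Scheme.{u}) [IsNoetherian X]
    (hreg : ∀ x : X, IsRegularLocalRing ↑(X.presheaf.stalk x))
    (hfin : topologicalKrullDim X < ⊤)
    (hcomp : ∀ C ∈ irreducibleComponents (X : Type u),
      topologicalKrullDim ↥C = topologicalKrullDim X)
    (hchain : ∀ (y : X) (T : Set X), IsClosed T → IsIrreducible T → y ∈ T →
      topologicalKrullDim ↥T = topologicalKrullDim ↥(closure ({y} : Set X)) +
        topologicalKrullDim ↥{t : X | t ∈ T ∧ t ⤳ y})
    (F : X.Modules) (hF : Coh.IsCoh F) (n : ℕ) :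
    IsOpen {x : X | (n : WithBot ℕ∞) ≤
      ((LocCoh.depth ↑(X.presheaf.stalk x) ↑(F.presheaf.stalk x) : ℕ∞) : WithBot ℕ∞) +
        topologicalKrullDim ↥(closure ({x} : Set X))} := by
  rw [isOpen_iff_forall_mem_open]
  intro x hx
  obtain ⟨d, hd⟩ : ∃ d : ℕ, topologicalKrullDim X = (d : WithBot ℕ∞) := by
    have h0 : (0 : WithBot ℕ∞) ≤ topologicalKrullDim X := by
      haveI : Nonempty (IrreducibleCloseds X) :=
        ⟨⟨closure {x}, isIrreducible_singleton.closure, isClosed_closure⟩⟩
      exact Order.krullDim_nonneg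
    generalize topologicalKrullDim X = t at h0 hfin ⊢
    induction t using WithBot.recBotCoe with
    | bot => exact absurd h0 (by simp)
    | coe e =>
      have he : e ≠ ⊤ := by
        rintro rfl
        have h2 : ((⊤ : ℕ∞) : WithBot ℕ∞) = ⊤ := rfl
        rw [h2] at hfin
        exact lt_irrefl _ hfin
      obtain ⟨d, rfl⟩ := ENat.ne_top_iff_exists.mp he
      exact ⟨d, rfl⟩
  obtain ⟨_, ⟨V, hV, rfl⟩, hxV, -⟩ :=
    X.isBasis_affineOpens.exists_subset_of_mem_open (Set.mem_univ x) isOpen_univ
  have hV : IsAffineOpen V := hV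
  haveI : IsNoetherianRing Γ(X, V) := IsLocallyNoetherian.component_noetherian ⟨V, hV⟩
  haveI hq := hF.1
  haveI hNfin : Module.Finite Γ(X, V)
      (Groth.Agent.Lib.Helper4.CohHartogs1.NN Γ(X, V) (F.restrict hV.fromSpec)) :=
    Groth.Agent.Helper1.AffFin.finite_restrict F hq hF.2 hV.fromSpec
  let P : Set (PrimeSpectrum Γ(X, V)) :=
    (Module.support Γ(X, V)
        (Groth.Agent.Lib.Helper4.CohHartogs1.NN Γ(X, V) (F.restrict hV.fromSpec)))ᶜ ∪
      {p | n ≤ d ∧ projectiveDimension (ModuleCat.of (Localization.AtPrime p.asIdeal)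
        (LocalizedModule p.asIdeal.primeCompl
          (Groth.Agent.Lib.Helper4.CohHartogs1.NN Γ(X, V) (F.restrict hV.fromSpec)))) ≤
        ((d - n : ℕ) : WithBot ℕ∞)}
  have hP2 : IsOpen {p : PrimeSpectrum Γ(X, V) |
      n ≤ d ∧ projectiveDimension (ModuleCat.of (Localization.AtPrime p.asIdeal)
        (LocalizedModule p.asIdeal.primeCompl
          (Groth.Agent.Lib.Helper4.CohHartogs1.NN Γ(X, V) (F.restrict hV.fromSpec)))) ≤
        ((d - n : ℕ) : WithBot ℕ∞)} := by
    by_cases hnd : n ≤ d
    · have hs : {p : PrimeSpectrum Γ(X, V) |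
          n ≤ d ∧ projectiveDimension (ModuleCat.of (Localization.AtPrime p.asIdeal)
            (LocalizedModule p.asIdeal.primeCompl
              (Groth.Agent.Lib.Helper4.CohHartogs1.NN Γ(X, V) (F.restrict hV.fromSpec)))) ≤
            ((d - n : ℕ) : WithBot ℕ∞)} =
          {p : PrimeSpectrum Γ(X, V) |
            projectiveDimension (ModuleCat.of (Localization.AtPrime p.asIdeal)
              (LocalizedModule p.asIdeal.primeCompl
                (Groth.Agent.Lib.Helper4.CohHartogs1.NN Γ(X, V) (F.restrict hV.fromSpec)))) ≤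
              ((d - n : ℕ) : WithBot ℕ∞)} := by
        ext p
        simp only [Set.mem_ofPred_eq, hnd, true_and]
      rw [hs]
      exact Groth.Agent.Helper8.ABS.isOpen_projectiveDimension_le Γ(X, V)
        (Groth.Agent.Lib.Helper4.CohHartogs1.NN Γ(X, V) (F.restrict hV.fromSpec)) (d - n)
    · have hs : {p : PrimeSpectrum Γ(X, V) |
          n ≤ d ∧ projectiveDimension (ModuleCat.of (Localization.AtPrime p.asIdeal)
            (LocalizedModule p.asIdeal.primeCompl
              (Groth.Agent.Lib.Helper4.CohHartogs1.NN Γ(X, V) (F.restrict hV.fromSpec)))) ≤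
            ((d - n : ℕ) : WithBot ℕ∞)} = ∅ := by
        ext p
        simp only [Set.mem_ofPred_eq, hnd, false_and, Set.mem_empty_iff_false]
      rw [hs]
      exact isOpen_empty
  have hPopen : IsOpen P := (Module.isClosed_support (R := Γ(X, V)) (M := Groth.Agent.Lib.Helper4.CohHartogs1.NN Γ(X, V) (F.restrict hV.fromSpec))).isOpen_compl.union hP2
  have key : ∀ p : PrimeSpectrum Γ(X, V),
      ((n : WithBot ℕ∞) ≤
        ((LocCoh.depth ↑(X.presheaf.stalk (hV.fromSpec p))
          ↑(F.presheaf.stalk (hV.fromSpec p)) : ℕ∞) : WithBot ℕ∞) +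
          topologicalKrullDim ↥(closure ({hV.fromSpec p} : Set X))) ↔ p ∈ P := by
    intro p
    have hyV : hV.fromSpec p ∈ V := Groth.Agent.Lead.SD.fromSpec_mem hV p
    haveI := hreg (hV.fromSpec p)
    haveI : IsDomain (X.presheaf.stalk (hV.fromSpec p)) := Groth.Agent.Helper8.RLR.isDomain _
    obtain ⟨T, hT, hyT, hdim⟩ := exists_component X (hV.fromSpec p)
    have h1 := hchain (hV.fromSpec p) T (isClosed_of_mem_irreducibleComponents T hT) hT.1 hyT
    rw [hdim, hcomp T hT, hd] at h1
    letI alg : Algebra Γ(X, V) (X.presheaf.stalk (hV.fromSpec p)) :=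
      TopCat.Presheaf.algebra_section_stalk X.presheaf ⟨hV.fromSpec p, hyV⟩
    haveI hloc : IsLocalization.AtPrime (X.presheaf.stalk (hV.fromSpec p)) p.asIdeal :=
      hV.isLocalization_stalk' p hyV
    let e : Localization.AtPrime p.asIdeal ≃ₐ[Γ(X, V)] X.presheaf.stalk (hV.fromSpec p) :=
      IsLocalization.algEquiv p.asIdeal.primeCompl _ _
    haveI : IsRegularLocalRing (Localization.AtPrime p.asIdeal) :=
      IsRegularLocalRing.of_ringEquiv e.symm.toRingEquiv
    have hdimeq : ringKrullDim (Localization.AtPrime p.asIdeal) =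
        ringKrullDim (X.presheaf.stalk (hV.fromSpec p)) :=
      ringKrullDim_eq_of_ringEquiv e.toRingEquiv
    have hc : topologicalKrullDim ↥(closure ({hV.fromSpec p} : Set X)) +
        ringKrullDim (Localization.AtPrime p.asIdeal) = (d : WithBot ℕ∞) := by
      rw [hdimeq]; exact h1.symm
    have hpt := point_iff (Localization.AtPrime p.asIdeal)
      (LocalizedModule p.asIdeal.primeCompl
        (Groth.Agent.Lib.Helper4.CohHartogs1.NN Γ(X, V) (F.restrict hV.fromSpec))) _ d n hc
    rw [Groth.Agent.Lib.Helper4.CohHartogs1.depth_NN F hV p, hpt]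
    show _ ↔ (p ∈ (Module.support Γ(X, V)
        (Groth.Agent.Lib.Helper4.CohHartogs1.NN Γ(X, V) (F.restrict hV.fromSpec)))ᶜ ∨ _)
    rw [Set.mem_compl_iff, Module.notMem_support_iff]
    rfl
  have hWopen : IsOpen (⇑hV.fromSpec '' P) := hV.fromSpec.isOpenEmbedding.isOpenMap P hPopen
  refine ⟨⇑hV.fromSpec '' P, ?_, hWopen, ?_⟩
  · rintro _ ⟨p, hp, rfl⟩
    exact (key p).mpr hp
  · refine ⟨hV.primeIdealOf ⟨x, hxV⟩, (key _).mp ?_, hV.fromSpec_primeIdealOf ⟨x, hxV⟩⟩
    rw [hV.fromSpec_primeIdealOf ⟨x, hxV⟩]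
    exact hx

end Groth.Agent.Helper7.RectDepth
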