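import Mathlib
import Groth.Prelude
import Groth.Agent.Lib.Helper7.RectDepth.Open
import Groth.Agent.Lib.Helper7.JacSupp.Main
import Groth.Agent.Lib.Helper4.JacDim4
import Groth.Agent.Lib.Lead.MFib3
import Groth.Agent.Lib.Helper8.ABS11
import Groth.Agent.Lib.Helper8.FlatReg5
import Groth.Agent.S0603

set_option linter.style.haveILetI false
set_option linter.unusedVariables false
set_option linter.unusedSectionVars false
set_option autoImplicit false
set_option backward.isDefEq.respectTransparency.types false
set_option synthInstance.maxHeartbeats 400000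
set_option maxHeartbeats 800000

universe u

/-! helper7: helper7: tools for the rectified depth over Jacobson regular bases: regular local rings are universally catenary, algebraic core via Auslander-Buchsbaum, depth of a localization computed over a ring surjecting onto the given one, dimension of closures in charts -/

open CategoryTheory CategoryTheory.Limits AlgebraicGeometry TopologicalSpace
open Groth.Agent.Helper7.FinType

namespace Groth.Agent.Helper7.RectDepth

/-- A regular local ring is universally catenary. -/
theorem uc_of_regular (R : Type u) [CommRing R] [IsRegularLocalRing R] :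
    CAlg.IsUniversallyCatenary R := by
  haveI : LocCoh.IsCohenMacaulayRing R :=
    { (inferInstance : IsNoetherianRing R) with
      isCohenMacaulayLocalRing_localization := fun p _ => by
        haveI := Groth.Agent.Helper8.ABS.isRegularLocalRing_localization R p
        exact Groth.Agent.Helper8.FlatReg.isCohenMacaulayLocalRing_of_isRegularLocalRing _ }
  exact Groth.Agent.S0603.result R

/-- The algebraic core: on an open set where the correction term plus the dimension of the local
ring is constant, the locus of large rectified depth is the trace of an open set. -/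
theorem core (R : Type u) [CommRing R] [IsRegularRing R] (M : Type u) [AddCommGroup M]
    [Module R M] [Module.Finite R M] (n d : ℕ) (c : PrimeSpectrum R → WithBot ℕ∞)
    (W₀ : Set (PrimeSpectrum R))
    (hc : ∀ Q ∈ W₀, c Q + ringKrullDim (Localization.AtPrime Q.asIdeal) = (d : WithBot ℕ∞)) :
    ∃ P : Set (PrimeSpectrum R), IsOpen P ∧ ∀ Q ∈ W₀,
      ((n : WithBot ℕ∞) ≤ ((LocCoh.depth (Localization.AtPrime Q.asIdeal)
        (LocalizedModule Q.asIdeal.primeCompl M) : ℕ∞) : WithBot ℕ∞) + c Q ↔ Q ∈ P) := by
  have hP2 : IsOpen {p : PrimeSpectrum R |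
      n ≤ d ∧ projectiveDimension (ModuleCat.of (Localization.AtPrime p.asIdeal)
        (LocalizedModule p.asIdeal.primeCompl M)) ≤ ((d - n : ℕ) : WithBot ℕ∞)} := by
    by_cases hnd : n ≤ d
    · have hs : {p : PrimeSpectrum R |
          n ≤ d ∧ projectiveDimension (ModuleCat.of (Localization.AtPrime p.asIdeal)
            (LocalizedModule p.asIdeal.primeCompl M)) ≤ ((d - n : ℕ) : WithBot ℕ∞)} =
          {p : PrimeSpectrum R |
            projectiveDimension (ModuleCat.of (Localization.AtPrime p.asIdeal)
              (LocalizedModule p.asIdeal.primeCompl M)) ≤ ((d - n : ℕ) : WithBot ℕ∞)} := by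
        ext p
        simp only [Set.mem_ofPred_eq, hnd, true_and]
      rw [hs]
      exact Groth.Agent.Helper8.ABS.isOpen_projectiveDimension_le R M (d - n)
    · have hs : {p : PrimeSpectrum R |
          n ≤ d ∧ projectiveDimension (ModuleCat.of (Localization.AtPrime p.asIdeal)
            (LocalizedModule p.asIdeal.primeCompl M)) ≤ ((d - n : ℕ) : WithBot ℕ∞)} = ∅ := by
        ext p
        simp only [Set.mem_ofPred_eq, hnd, false_and, Set.mem_empty_iff_false]
      rw [hs]
      exact isOpen_empty
  refine ⟨(Module.support R M)ᶜ ∪ {p : PrimeSpectrum R |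
      n ≤ d ∧ projectiveDimension (ModuleCat.of (Localization.AtPrime p.asIdeal)
        (LocalizedModule p.asIdeal.primeCompl M)) ≤ ((d - n : ℕ) : WithBot ℕ∞)},
    (Module.isClosed_support (R := R) (M := M)).isOpen_compl.union hP2, fun Q hQ => ?_⟩
  rw [point_iff (Localization.AtPrime Q.asIdeal) (LocalizedModule Q.asIdeal.primeCompl M) (c Q) d n
    (hc Q hQ)]
  show _ ↔ (Q ∈ (Module.support R M)ᶜ ∨ _)
  rw [Set.mem_compl_iff, Module.notMem_support_iff]
  rfl

/-- Depth of a localization computed over a ring surjecting onto the given one. -/
theorem depth_transfer {R B T : Type u} [CommRing R] [CommRing B] [CommRing T] [Algebra R B]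
    (hπ : Function.Surjective (algebraMap R B)) [IsNoetherianRing R]
    (q : Ideal B) [q.IsPrime] [Algebra B T] [IsLocalization.AtPrime T q] [IsLocalRing T]
    [IsNoetherianRing T]
    {M N : Type u} [AddCommGroup M] [Module B M] [Module R M] [IsScalarTower R B M]
    [Module.Finite R M]
    [AddCommGroup N] [Module B N] [Module R N] [IsScalarTower R B N] [Module T N]
    [IsScalarTower B T N]
    (f : M →ₗ[B] N) [IsLocalizedModule q.primeCompl f] :
    LocCoh.depth T N = LocCoh.depth (Localization.AtPrime (q.comap (algebraMap R B)))
      (LocalizedModule (q.comap (algebraMap R B)).primeCompl M) := by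
  have hsub : Algebra.algebraMapSubmonoid B (q.comap (algebraMap R B)).primeCompl =
      q.primeCompl := by
    ext b
    constructor
    · rintro ⟨r, hr, rfl⟩
      exact hr
    · intro hb
      obtain ⟨r, rfl⟩ := hπ b
      exact ⟨r, hb, rfl⟩
  haveI : IsLocalizedModule (Algebra.algebraMapSubmonoid B (q.comap (algebraMap R B)).primeCompl)
      f := by
    rw [hsub]; infer_instance
  haveI hloc : IsLocalizedModule (q.comap (algebraMap R B)).primeCompl (f.restrictScalars R) :=
    IsLocalizedModule.restrictScalars (q.comap (algebraMap R B)).primeCompl f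
  let e₀ : LocalizedModule (q.comap (algebraMap R B)).primeCompl M ≃ₗ[R] N :=
    IsLocalizedModule.linearEquiv (q.comap (algebraMap R B)).primeCompl
      (LocalizedModule.mkLinearMap (q.comap (algebraMap R B)).primeCompl M) (f.restrictScalars R)
  letI algRT : Algebra R T := ((algebraMap B T).comp (algebraMap R B)).toAlgebra
  haveI : IsScalarTower R B T := IsScalarTower.of_algebraMap_eq (fun _ => rfl)
  haveI : IsScalarTower R T N := IsScalarTower.of_algebraMap_smul (fun r y => by
    rw [IsScalarTower.algebraMap_apply R B T, algebraMap_smul, algebraMap_smul])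
  have hunits : ∀ s : (q.comap (algebraMap R B)).primeCompl, IsUnit (algebraMap R T (s : R)) := by
    intro s
    rw [IsScalarTower.algebraMap_apply R B T]
    exact IsLocalization.map_units T (⟨algebraMap R B (s : R), s.2⟩ : q.primeCompl)
  let ρ : Localization.AtPrime (q.comap (algebraMap R B)) →+* T :=
    IsLocalization.lift (M := (q.comap (algebraMap R B)).primeCompl) (g := algebraMap R T) hunits
  have hρ : Function.Surjective ρ := by
    intro z
    obtain ⟨⟨b, s⟩, rfl⟩ := IsLocalization.mk'_surjective q.primeCompl z
    obtain ⟨r, rfl⟩ := hπ b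
    obtain ⟨t, ht⟩ := hπ (s : B)
    have htQ : t ∈ (q.comap (algebraMap R B)).primeCompl := by
      show algebraMap R B t ∉ q
      rw [ht]; exact s.2
    refine ⟨IsLocalization.mk' _ r (⟨t, htQ⟩ : (q.comap (algebraMap R B)).primeCompl), ?_⟩
    rw [IsLocalization.lift_mk'_spec]
    show algebraMap B T (algebraMap R B r) = algebraMap B T (algebraMap R B t) * _
    rw [ht]
    exact (IsLocalization.mk'_spec' T (algebraMap R B r) s).symm
  have he : ∀ (a : Localization.AtPrime (q.comap (algebraMap R B)))
      (y : LocalizedModule (q.comap (algebraMap R B)).primeCompl M), e₀ (a • y) = ρ a • e₀ y := by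
    intro a y
    obtain ⟨⟨r, t⟩, rfl⟩ := IsLocalization.mk'_surjective (q.comap (algebraMap R B)).primeCompl a
    have hunit : IsUnit (algebraMap R T (t : R)) := hunits t
    have hinj : Function.Injective fun z : N => (algebraMap R T (t : R)) • z :=
      fun y1 y2 h => hunit.smul_left_cancel.mp h
    apply hinj
    change (algebraMap R T (t : R)) •
        e₀ (IsLocalization.mk' (Localization.AtPrime (q.comap (algebraMap R B))) r t • y) =
      (algebraMap R T (t : R)) •
        (ρ (IsLocalization.mk' (Localization.AtPrime (q.comap (algebraMap R B))) r t) • e₀ y)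
    have h2 : (t : R) •
        (IsLocalization.mk' (Localization.AtPrime (q.comap (algebraMap R B))) r t • y) = r • y := by
      rw [← algebraMap_smul (Localization.AtPrime (q.comap (algebraMap R B))) (t : R), smul_smul,
        IsLocalization.mk'_spec', algebraMap_smul]
    have h1 : (algebraMap R T (t : R)) •
        e₀ (IsLocalization.mk' (Localization.AtPrime (q.comap (algebraMap R B))) r t • y) =
        r • e₀ y := by
      rw [algebraMap_smul, ← e₀.map_smul, h2, e₀.map_smul]
    have h3 : (algebraMap R T (t : R)) •
        (ρ (IsLocalization.mk' (Localization.AtPrime (q.comap (algebraMap R B))) r t) • e₀ y) =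
        r • e₀ y := by
      rw [smul_smul]
      have h4 : algebraMap R T (t : R) *
          ρ (IsLocalization.mk' (Localization.AtPrime (q.comap (algebraMap R B))) r t) =
          algebraMap R T r :=
        ((IsLocalization.lift_mk'_spec hunits r _ t).mp rfl).symm
      rw [h4, algebraMap_smul]
    rw [h1, h3]
  exact Groth.Agent.Lead.MFib.depth_eq_of_surjective_semilinear ρ hρ e₀.toAddEquiv he

/-- Dimension of the closure of a point computed in an affine chart (Jacobson case). -/
theorem dim_closure_chart {X : Scheme.{u}} [IsLocallyNoetherian X] [JacobsonSpace X]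
    (h2 : ∀ x : X, CAlg.IsUniversallyCatenary (X.presheaf.stalk x))
    (h3 : ∀ X' ∈ irreducibleComponents (X : Type u), ∀ x ∈ X', IsClosed ({x} : Set X) →
      topologicalKrullDim (↥X' : Type u) = topologicalKrullDim ↥{t : X | t ∈ X' ∧ t ⤳ x})
    {U : X.Opens} (hU : IsAffineOpen U) (q : ↥(Spec Γ(X, U))) :
    topologicalKrullDim ↥(closure ({hU.fromSpec q} : Set X)) =
      topologicalKrullDim ↥(closure ({q} : Set ↥(Spec Γ(X, U)))) := by
  have hxU : hU.fromSpec q ∈ U := fromSpec_mem hU q
  rw [← Groth.Agent.Lib.Helper4.JacDim4.dim_inter_closure h2 h3 (U : Set X) U.isOpen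
    (hU.fromSpec q) (hU.fromSpec q) specializes_rfl hxU]
  have hemb : Topology.IsEmbedding (⇑hU.fromSpec) := hU.fromSpec.isOpenEmbedding.isEmbedding
  have hset : (U : Set X) ∩ closure ({hU.fromSpec q} : Set X) =
      ⇑hU.fromSpec '' (closure ({q} : Set ↥(Spec Γ(X, U)))) := by
    rw [hemb.isInducing.closure_eq_preimage_closure_image, Set.image_preimage_eq_inter_range,
      Set.image_singleton, hU.range_fromSpec, Set.inter_comm]
  rw [hset]
  exact (IsHomeomorph.topologicalKrullDim_eq _ (hemb.homeomorphImage _).isHomeomorph).symm

/-- Dimension of the closure of a point under a closed embedding of prime spectra. -/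
theorem dim_closure_comap {R B : Type u} [CommRing R] [CommRing B] (π : R →+* B)
    (hπ : Function.Surjective π) (q : PrimeSpectrum B) :
    topologicalKrullDim ↥(closure ({q} : Set (PrimeSpectrum B))) =
      topologicalKrullDim ↥(closure ({PrimeSpectrum.comap π q} : Set (PrimeSpectrum R))) := by
  have hce := PrimeSpectrum.isClosedEmbedding_comap_of_surjective B π hπ
  have hset : closure ({PrimeSpectrum.comap π q} : Set (PrimeSpectrum R)) =
      PrimeSpectrum.comap π '' (closure ({q} : Set (PrimeSpectrum B))) := by
    rw [← hce.closure_image_eq, Set.image_singleton]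
  rw [hset]
  exact IsHomeomorph.topologicalKrullDim_eq _ (hce.isEmbedding.homeomorphImage _).isHomeomorph

end Groth.Agent.Helper7.RectDepth
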