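import Mathlib
import Groth.Prelude
import Groth.Agent.Lib.Helper7.RectDepth.JacA

set_option linter.style.haveILetI false
set_option linter.unusedVariables false
set_option linter.unusedSectionVars false
set_option autoImplicit false
set_option backward.isDefEq.respectTransparency.types false
set_option synthInstance.maxHeartbeats 400000
set_option maxHeartbeats 800000

universe u

/-! helper7: helper7: lower semicontinuity of the rectified depth over regular Jacobson bases with equidimensional components: local constancy of dim closure + dim local ring, chart computation via a polynomial presentation, main openness theorem -/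

open CategoryTheory CategoryTheory.Limits AlgebraicGeometry TopologicalSpace
open Groth.Agent.Helper7.FinType

namespace Groth.Agent.Helper7.RectDepth

/-- On the spectrum of a regular Jacobson ring with equidimensional components, the sum of the
dimension of the closure of a point and the dimension of the local ring is locally constant. -/
theorem exists_nhd_const (R : Type u) [CommRing R] [IsRegularRing R]
    [IsLocallyNoetherian (Spec (CommRingCat.of R))] [JacobsonSpace ↥(Spec (CommRingCat.of R))]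
    (h2P : ∀ s : ↥(Spec (CommRingCat.of R)),
      CAlg.IsUniversallyCatenary ((Spec (CommRingCat.of R)).presheaf.stalk s))
    (h3P : ∀ S' ∈ irreducibleComponents (↥(Spec (CommRingCat.of R)) : Type u), ∀ s ∈ S',
      IsClosed ({s} : Set ↥(Spec (CommRingCat.of R))) →
      topologicalKrullDim (↥S' : Type u) =
        topologicalKrullDim ↥{t : ↥(Spec (CommRingCat.of R)) | t ∈ S' ∧ t ⤳ s})
    (Q₀ : PrimeSpectrum R) :
    ∃ (W₀ : Set (PrimeSpectrum R)) (d : ℕ), IsOpen W₀ ∧ Q₀ ∈ W₀ ∧ ∀ Q ∈ W₀,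
      topologicalKrullDim ↥(closure ({Q} : Set (PrimeSpectrum R))) +
        ringKrullDim (Localization.AtPrime Q.asIdeal) = (d : WithBot ℕ∞) := by
  haveI : IsDomain (Localization.AtPrime Q₀.asIdeal) := Groth.Agent.Helper8.RLR.isDomain _
  obtain ⟨K, hK⟩ : ∃ K : Ideal R,
      K = RingHom.ker (algebraMap R (Localization.AtPrime Q₀.asIdeal)) := ⟨_, rfl⟩
  have hKprime : K.IsPrime := by
    rw [hK]; exact RingHom.ker_isPrime _
  have hKle : ∀ 𝔭 : Ideal R, 𝔭.IsPrime → 𝔭 ≤ Q₀.asIdeal → K ≤ 𝔭 := by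
    intro 𝔭 h𝔭 hle r hr
    rw [hK, RingHom.mem_ker] at hr
    obtain ⟨s, hs⟩ := (IsLocalization.map_eq_zero_iff Q₀.asIdeal.primeCompl
      (Localization.AtPrime Q₀.asIdeal) r).mp hr
    have hmem : (s : R) * r ∈ 𝔭 := by rw [hs]; exact 𝔭.zero_mem
    rcases h𝔭.mem_or_mem hmem with h | h
    · exact absurd (hle h) s.2
    · exact h
  have hmin : ∀ 𝔭 ∈ minimalPrimes R, 𝔭 ≤ Q₀.asIdeal → 𝔭 = K := by
    intro 𝔭 h𝔭 hle
    have h1 : K ≤ 𝔭 := hKle 𝔭 h𝔭.1.1 hle
    exact le_antisymm (h𝔭.2 ⟨hKprime, bot_le⟩ h1) h1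
  obtain ⟨η₀, hη₀⟩ : ∃ η₀ : PrimeSpectrum R, η₀.asIdeal = K := ⟨⟨K, hKprime⟩, rfl⟩
  obtain ⟨W₀, hW₀⟩ : ∃ W₀ : Set (PrimeSpectrum R),
      W₀ = {Q | ∀ 𝔭 ∈ minimalPrimes R, 𝔭 ≤ Q.asIdeal → 𝔭 = K} := ⟨_, rfl⟩
  have hW₀open : IsOpen W₀ := by
    have hcl : IsClosed (⋃ 𝔭 ∈ {𝔭 : Ideal R | 𝔭 ∈ minimalPrimes R ∧ 𝔭 ≠ K},
        PrimeSpectrum.zeroLocus (𝔭 : Set R)) := by
      refine Set.Finite.isClosed_biUnion
        ((minimalPrimes.finite_of_isNoetherianRing R).subset (fun 𝔭 h => h.1))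
        (fun 𝔭 _ => PrimeSpectrum.isClosed_zeroLocus _)
    have heq : W₀ = (⋃ 𝔭 ∈ {𝔭 : Ideal R | 𝔭 ∈ minimalPrimes R ∧ 𝔭 ≠ K},
        PrimeSpectrum.zeroLocus (𝔭 : Set R))ᶜ := by
      rw [hW₀]
      ext Q
      rw [Set.mem_compl_iff, Set.mem_iUnion₂]
      constructor
      · rintro hQ ⟨𝔭, ⟨h𝔭, hne⟩, hmem⟩
        exact hne (hQ 𝔭 h𝔭 (SetLike.coe_subset_coe.mp ((PrimeSpectrum.mem_zeroLocus _ _).mp hmem)))
      · intro hQ 𝔭 h𝔭 hle
        by_contra hne
        exact hQ ⟨𝔭, ⟨h𝔭, hne⟩,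
          (PrimeSpectrum.mem_zeroLocus _ _).mpr (SetLike.coe_subset_coe.mpr hle)⟩
    rw [heq]; exact hcl.isOpen_compl
  have hmain : ∀ Q ∈ W₀, ∃ a b : ℕ,
      topologicalKrullDim ↥(closure ({Q} : Set (PrimeSpectrum R))) = (a : WithBot ℕ∞) ∧
      ringKrullDim (Localization.AtPrime Q.asIdeal) = (b : WithBot ℕ∞) ∧
      topologicalKrullDim ↥(closure ({η₀} : Set (PrimeSpectrum R))) =
        ((b + a : ℕ) : WithBot ℕ∞) := by
    intro Q hQ
    rw [hW₀] at hQ
    have hKt : ∀ t : PrimeSpectrum R, t.asIdeal ≤ Q.asIdeal → K ≤ t.asIdeal := by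
      intro t ht
      obtain ⟨𝔭, h𝔭, h𝔭t⟩ := Ideal.exists_minimalPrimes_le (bot_le : (⊥ : Ideal R) ≤ t.asIdeal)
      have h1 : 𝔭 = K := hQ 𝔭 h𝔭 (h𝔭t.trans ht)
      rw [← h1]; exact h𝔭t
    have hsp : η₀ ⤳ Q := (PrimeSpectrum.le_iff_specializes η₀ Q).mp (by
      show η₀.asIdeal ≤ Q.asIdeal
      rw [hη₀]; exact hKt Q le_rfl)
    obtain ⟨a, b, ha, hb, hab⟩ :=
      Groth.Agent.Lib.Helper4.JacDim4.dim_closure_add h2P h3P η₀ Q hsp
    refine ⟨a, b, ha, ?_, hab⟩
    have hb' : topologicalKrullDim ↥{t : PrimeSpectrum R |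
        t ∈ closure ({η₀} : Set (PrimeSpectrum R)) ∧ t ⤳ Q} = (b : WithBot ℕ∞) := hb
    have hset : {t : PrimeSpectrum R | t ∈ closure ({η₀} : Set (PrimeSpectrum R)) ∧ t ⤳ Q} =
        Set.range (PrimeSpectrum.comap (algebraMap R (Localization.AtPrime Q.asIdeal))) := by
      rw [PrimeSpectrum.localization_comap_range (Localization.AtPrime Q.asIdeal)
        Q.asIdeal.primeCompl]
      ext t
      simp only [Set.mem_ofPred_eq]
      constructor
      · rintro ⟨-, h2⟩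
        have hle : t.asIdeal ≤ Q.asIdeal := (PrimeSpectrum.le_iff_specializes t Q).mpr h2
        rw [Set.disjoint_left]
        intro r hr hrt
        exact hr (hle hrt)
      · intro hd
        have hle : t.asIdeal ≤ Q.asIdeal := by
          intro r hrt
          by_contra hrQ
          exact (Set.disjoint_left.mp hd) hrQ hrt
        refine ⟨?_, (PrimeSpectrum.le_iff_specializes t Q).mp hle⟩
        rw [← specializes_iff_mem_closure]
        refine (PrimeSpectrum.le_iff_specializes η₀ t).mp ?_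
        show η₀.asIdeal ≤ t.asIdeal
        rw [hη₀]; exact hKt t hle
    rw [hset] at hb'
    have hemb := PrimeSpectrum.localization_comap_isEmbedding (Localization.AtPrime Q.asIdeal)
      Q.asIdeal.primeCompl
    have h1 : topologicalKrullDim (PrimeSpectrum (Localization.AtPrime Q.asIdeal)) =
        topologicalKrullDim ↥(Set.range (PrimeSpectrum.comap
          (algebraMap R (Localization.AtPrime Q.asIdeal)))) :=
      IsHomeomorph.topologicalKrullDim_eq _ hemb.toHomeomorph.isHomeomorph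
    rw [← PrimeSpectrum.topologicalKrullDim_eq_ringKrullDim, h1]
    exact hb'
  have hQ₀W : Q₀ ∈ W₀ := by
    rw [hW₀]; exact hmin
  obtain ⟨a₀, b₀, -, -, hd₀⟩ := hmain Q₀ hQ₀W
  refine ⟨W₀, b₀ + a₀, hW₀open, hQ₀W, fun Q hQ => ?_⟩
  obtain ⟨a, b, ha, hb, hab⟩ := hmain Q hQ
  rw [ha, hb]
  have h5 : ((b₀ + a₀ : ℕ) : WithBot ℕ∞) = ((b + a : ℕ) : WithBot ℕ∞) := hd₀.symm.trans hab
  rw [h5, Nat.cast_add, add_comm]

/-- Openness in a chart presented as a quotient of a regular ring. -/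
theorem chart_open {X : Scheme.{u}} [IsLocallyNoetherian X] [JacobsonSpace X]
    (h2X : ∀ x : X, CAlg.IsUniversallyCatenary (X.presheaf.stalk x))
    (h3X : ∀ X' ∈ irreducibleComponents (X : Type u), ∀ x ∈ X', IsClosed ({x} : Set X) →
      topologicalKrullDim (↥X' : Type u) = topologicalKrullDim ↥{t : X | t ∈ X' ∧ t ⤳ x})
    (F : X.Modules) (hF : Coh.IsCoh F) (n : ℕ)
    {U : X.Opens} (hU : IsAffineOpen U)
    (R : Type u) [CommRing R] [IsRegularRing R]
    [IsLocallyNoetherian (Spec (CommRingCat.of R))] [JacobsonSpace ↥(Spec (CommRingCat.of R))]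
    (h2P : ∀ s : ↥(Spec (CommRingCat.of R)),
      CAlg.IsUniversallyCatenary ((Spec (CommRingCat.of R)).presheaf.stalk s))
    (h3P : ∀ S' ∈ irreducibleComponents (↥(Spec (CommRingCat.of R)) : Type u), ∀ s ∈ S',
      IsClosed ({s} : Set ↥(Spec (CommRingCat.of R))) →
      topologicalKrullDim (↥S' : Type u) =
        topologicalKrullDim ↥{t : ↥(Spec (CommRingCat.of R)) | t ∈ S' ∧ t ⤳ s})
    (π : R →+* Γ(X, U)) (hπ : Function.Surjective π) (x₀ : X) (hx₀ : x₀ ∈ U) :
    ∃ N : Set X, IsOpen N ∧ x₀ ∈ N ∧ ∃ P' : Set X, IsOpen P' ∧ ∀ x ∈ N,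
      ((n : WithBot ℕ∞) ≤
        ((LocCoh.depth ↑(X.presheaf.stalk x) ↑(F.presheaf.stalk x) : ℕ∞) : WithBot ℕ∞) +
          topologicalKrullDim ↥(closure ({x} : Set X)) ↔ x ∈ P') := by
  haveI : IsNoetherianRing Γ(X, U) := IsLocallyNoetherian.component_noetherian ⟨U, hU⟩
  haveI hq := hF.1
  have hMfin0 : Module.Finite Γ(X, U)
      (Groth.Agent.Lib.Helper4.CohHartogs1.NN Γ(X, U) (F.restrict hU.fromSpec)) :=
    Groth.Agent.Helper1.AffFin.finite_restrict F hq hF.2 hU.fromSpec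
  have hdepNN := Groth.Agent.Lib.Helper4.CohHartogs1.depth_NN F hU
  obtain ⟨M, hM⟩ : ∃ M : ModuleCat.{u} Γ(X, U),
      M = Groth.Agent.Lib.Helper4.CohHartogs1.NN Γ(X, U) (F.restrict hU.fromSpec) := ⟨_, rfl⟩
  rw [← hM] at hMfin0 hdepNN
  haveI hMfin : Module.Finite Γ(X, U) M := hMfin0
  letI algRB : Algebra R Γ(X, U) := π.toAlgebra
  have hπ' : Function.Surjective (algebraMap R Γ(X, U)) := hπ
  letI modRM : Module R M := Module.compHom M π
  haveI : IsScalarTower R Γ(X, U) M := IsScalarTower.of_algebraMap_smul (fun r y => rfl)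
  haveI : Module.Finite R Γ(X, U) :=
    Module.Finite.of_surjective (Algebra.linearMap R Γ(X, U)) hπ'
  haveI : Module.Finite R M := Module.Finite.trans Γ(X, U) M
  obtain ⟨W₀, d, hW₀o, hQ₀W, hconst⟩ := exists_nhd_const R h2P h3P
    (PrimeSpectrum.comap π (hU.primeIdealOf ⟨x₀, hx₀⟩))
  obtain ⟨Pop, hPopo, hPop⟩ := core R M n d
    (fun Q => topologicalKrullDim ↥(closure ({Q} : Set (PrimeSpectrum R)))) W₀ hconst
  have key : ∀ q : PrimeSpectrum Γ(X, U), PrimeSpectrum.comap π q ∈ W₀ →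
      ((n : WithBot ℕ∞) ≤
        ((LocCoh.depth ↑(X.presheaf.stalk (hU.fromSpec q))
          ↑(F.presheaf.stalk (hU.fromSpec q)) : ℕ∞) : WithBot ℕ∞) +
          topologicalKrullDim ↥(closure ({hU.fromSpec q} : Set X)) ↔
        PrimeSpectrum.comap π q ∈ Pop) := by
    intro q hqW
    have hdep : LocCoh.depth ↑(X.presheaf.stalk (hU.fromSpec q))
          ↑(F.presheaf.stalk (hU.fromSpec q)) =
        LocCoh.depth (Localization.AtPrime (PrimeSpectrum.comap π q).asIdeal)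
          (LocalizedModule (PrimeSpectrum.comap π q).asIdeal.primeCompl M) := by
      rw [hdepNN q]
      exact depth_transfer hπ' q.asIdeal (LocalizedModule.mkLinearMap q.asIdeal.primeCompl M)
    have hdim : topologicalKrullDim ↥(closure ({hU.fromSpec q} : Set X)) =
        topologicalKrullDim ↥(closure ({PrimeSpectrum.comap π q} : Set (PrimeSpectrum R))) :=
      (dim_closure_chart h2X h3X hU q).trans (dim_closure_comap π hπ q)
    rw [hdep, hdim]
    exact hPop _ hqW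
  refine ⟨⇑hU.fromSpec '' (PrimeSpectrum.comap π ⁻¹' W₀), ?_, ?_,
    ⇑hU.fromSpec '' (PrimeSpectrum.comap π ⁻¹' Pop), ?_, ?_⟩
  · exact hU.fromSpec.isOpenEmbedding.isOpenMap _
      (hW₀o.preimage (PrimeSpectrum.continuous_comap π))
  · exact ⟨hU.primeIdealOf ⟨x₀, hx₀⟩, hQ₀W, hU.fromSpec_primeIdealOf ⟨x₀, hx₀⟩⟩
  · exact hU.fromSpec.isOpenEmbedding.isOpenMap _
      (hPopo.preimage (PrimeSpectrum.continuous_comap π))
  · rintro _ ⟨q, hq, rfl⟩
    rw [key q hq]
    constructor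
    · intro h
      exact ⟨q, h, rfl⟩
    · rintro ⟨q', hq', hqq'⟩
      have h1 : q' = q := hU.fromSpec.isOpenEmbedding.injective hqq'
      rw [← h1]; exact hq'

/-- Lower semicontinuity of the rectified depth for schemes locally of finite type over a regular
Jacobson base with equidimensional components. -/
theorem isOpen_main_jac {X S : Scheme.{u}} [IsLocallyNoetherian S] [JacobsonSpace S]
    (hreg : ∀ s : S, IsRegularLocalRing ↑(S.presheaf.stalk s))
    (h3 : ∀ S' ∈ irreducibleComponents (S : Type u), ∀ s ∈ S', IsClosed ({s} : Set S) →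
      topologicalKrullDim (↥S' : Type u) = topologicalKrullDim ↥{t : S | t ∈ S' ∧ t ⤳ s})
    (g : X ⟶ S) [LocallyOfFiniteType g] (F : X.Modules) (hF : Coh.IsCoh F) (n : ℕ) :
    IsOpen {x : X | (n : WithBot ℕ∞) ≤
      ((LocCoh.depth ↑(X.presheaf.stalk x) ↑(F.presheaf.stalk x) : ℕ∞) : WithBot ℕ∞) +
        topologicalKrullDim ↥(closure ({x} : Set X))} := by
  have h2 : ∀ s : S, CAlg.IsUniversallyCatenary (S.presheaf.stalk s) := fun s => by
    haveI := hreg s
    exact uc_of_regular _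
  haveI : IsLocallyNoetherian X := LocallyOfFiniteType.isLocallyNoetherian g
  haveI : JacobsonSpace X := LocallyOfFiniteType.jacobsonSpace g
  have h2X := Groth.Agent.Helper7.JacSupp.uc_of_lft h2 g
  have h3X := Groth.Agent.Helper7.JacSupp.equidim_of_lft h2 h3 g
  rw [isOpen_iff_forall_mem_open]
  intro x₀ hx₀
  obtain ⟨V, hV, hsV, -⟩ :=
    exists_isAffineOpen_mem_and_subset (U := (⊤ : S.Opens)) (x := g x₀) trivial
  obtain ⟨U, hU, hxU, hUV⟩ :=
    exists_isAffineOpen_mem_and_subset (U := g ⁻¹ᵁ V) (x := x₀) hsV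
  haveI : IsNoetherianRing Γ(S, V) := IsLocallyNoetherian.component_noetherian ⟨V, hV⟩
  haveI : IsRegularRing Γ(S, V) := by
    refine isRegularRing_iff.mpr ?_
    intro p hp
    obtain ⟨pp, hpp⟩ : ∃ pp : PrimeSpectrum Γ(S, V), pp.asIdeal = p := ⟨⟨p, hp⟩, rfl⟩
    subst hpp
    have hyV : hV.fromSpec pp ∈ V := Groth.Agent.Lead.SD.fromSpec_mem hV pp
    haveI := hreg (hV.fromSpec pp)
    letI alg : Algebra Γ(S, V) (S.presheaf.stalk (hV.fromSpec pp)) :=
      TopCat.Presheaf.algebra_section_stalk S.presheaf ⟨hV.fromSpec pp, hyV⟩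
    haveI hloc : IsLocalization.AtPrime (S.presheaf.stalk (hV.fromSpec pp)) pp.asIdeal :=
      hV.isLocalization_stalk' pp hyV
    let e : Localization.AtPrime pp.asIdeal ≃ₐ[Γ(S, V)] S.presheaf.stalk (hV.fromSpec pp) :=
      IsLocalization.algEquiv pp.asIdeal.primeCompl _ _
    exact IsRegularLocalRing.of_ringEquiv e.symm.toRingEquiv
  letI : Algebra Γ(S, V) Γ(X, U) := (g.appLE V U hUV).hom.toAlgebra
  have hft : Algebra.FiniteType Γ(S, V) Γ(X, U) :=
    LocallyOfFiniteType.finiteType_appLE g hV hU hUV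
  obtain ⟨m, π₀, hπ₀⟩ := Algebra.FiniteType.iff_quotient_mvPolynomial''.mp hft
  haveI h1 : LocallyOfFiniteType (Spec.map (CommRingCat.ofHom
      (algebraMap Γ(S, V) (MvPolynomial (Fin m) Γ(S, V))))) := by
    rw [HasRingHomProperty.Spec_iff (P := @LocallyOfFiniteType)]
    exact RingHom.finiteType_algebraMap.mpr inferInstance
  haveI hlft : LocallyOfFiniteType (Spec.map (CommRingCat.ofHom
      (algebraMap Γ(S, V) (MvPolynomial (Fin m) Γ(S, V)))) ≫ hV.fromSpec) := inferInstance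
  haveI : IsLocallyNoetherian (Spec (CommRingCat.of (MvPolynomial (Fin m) Γ(S, V)))) :=
    LocallyOfFiniteType.isLocallyNoetherian (Spec.map (CommRingCat.ofHom
      (algebraMap Γ(S, V) (MvPolynomial (Fin m) Γ(S, V)))) ≫ hV.fromSpec)
  haveI : JacobsonSpace ↥(Spec (CommRingCat.of (MvPolynomial (Fin m) Γ(S, V)))) :=
    LocallyOfFiniteType.jacobsonSpace (Spec.map (CommRingCat.ofHom
      (algebraMap Γ(S, V) (MvPolynomial (Fin m) Γ(S, V)))) ≫ hV.fromSpec)
  have h2P := Groth.Agent.Helper7.JacSupp.uc_of_lft h2 (Spec.map (CommRingCat.ofHom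
      (algebraMap Γ(S, V) (MvPolynomial (Fin m) Γ(S, V)))) ≫ hV.fromSpec)
  have h3P := Groth.Agent.Helper7.JacSupp.equidim_of_lft h2 h3 (Spec.map (CommRingCat.ofHom
      (algebraMap Γ(S, V) (MvPolynomial (Fin m) Γ(S, V)))) ≫ hV.fromSpec)
  obtain ⟨N, hNo, hxN, P', hP'o, hiff⟩ := chart_open h2X h3X F hF n hU
    (MvPolynomial (Fin m) Γ(S, V)) h2P h3P π₀.toRingHom hπ₀ x₀ hxU
  refine ⟨N ∩ P', ?_, hNo.inter hP'o, ⟨hxN, (hiff x₀ hxN).mp hx₀⟩⟩
  rintro x ⟨hxN', hxP'⟩
  exact (hiff x hxN').mpr hxP'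

end Groth.Agent.Helper7.RectDepth
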