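import Mathlib
import Groth.Prelude
import Groth.Agent.Lib.Helper7.RectDepth.JacB
import Groth.Agent.Lib.Helper8.Depth7

set_option linter.style.haveILetI false
set_option linter.unusedVariables false
set_option linter.unusedSectionVars false
set_option autoImplicit false
set_option backward.isDefEq.respectTransparency.types false
set_option synthInstance.maxHeartbeats 400000
set_option maxHeartbeats 800000

universe u

/-! helper7: helper7: the rectified depth over a regular Jacobson base is the unique common value of the depth at nearby closed points of the closure of the point -/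

open CategoryTheory CategoryTheory.Limits AlgebraicGeometry TopologicalSpace
open Groth.Agent.Helper7.FinType

namespace Groth.Agent.Helper7.RectDepth

/-- Near a point, the depth at closed points of the closure of the point equals the rectified
depth of the point. -/
theorem jac_exists_nhd {X S : Scheme.{u}} [IsLocallyNoetherian S] [JacobsonSpace S]
    (hreg : ∀ s : S, IsRegularLocalRing ↑(S.presheaf.stalk s))
    (h3 : ∀ S' ∈ irreducibleComponents (S : Type u), ∀ s ∈ S', IsClosed ({s} : Set S) →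
      topologicalKrullDim (↥S' : Type u) = topologicalKrullDim ↥{t : S | t ∈ S' ∧ t ⤳ s})
    (g : X ⟶ S) [LocallyOfFiniteType g] (F : X.Modules) (hF : Coh.IsCoh F) (x : X) :
    ∃ N : ℕ∞, ((N : WithBot ℕ∞) =
        ((LocCoh.depth ↑(X.presheaf.stalk x) ↑(F.presheaf.stalk x) : ℕ∞) : WithBot ℕ∞) +
          topologicalKrullDim ↥(closure ({x} : Set X))) ∧
      ∃ U : X.Opens, x ∈ U ∧ ∀ x' : X, x' ∈ U → x' ∈ closure ({x} : Set X) →
        IsClosed ({x'} : Set X) →
        LocCoh.depth ↑(X.presheaf.stalk x') ↑(F.presheaf.stalk x') = N := by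
  have h2 : ∀ s : S, CAlg.IsUniversallyCatenary (S.presheaf.stalk s) := fun s => by
    haveI := hreg s
    exact uc_of_regular _
  haveI : IsLocallyNoetherian X := LocallyOfFiniteType.isLocallyNoetherian g
  haveI : JacobsonSpace X := LocallyOfFiniteType.jacobsonSpace g
  have h2X := Groth.Agent.Helper7.JacSupp.uc_of_lft h2 g
  have h3X := Groth.Agent.Helper7.JacSupp.equidim_of_lft h2 h3 g
  have hopen := isOpen_main_jac hreg h3 g F hF
  obtain ⟨a, -, ha, -, -⟩ :=
    Groth.Agent.Lib.Helper4.JacDim4.dim_closure_add h2X h3X x x specializes_rfl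
  rcases eq_or_ne (LocCoh.depth ↑(X.presheaf.stalk x) ↑(F.presheaf.stalk x)) ⊤ with htop | hfin
  · -- the stalk vanishes
    have hxs : x ∉ CohB1.support F := by
      intro hx
      have hnt : Nontrivial ↑(F.presheaf.stalk x) := not_subsingleton_iff_nontrivial.mp hx
      haveI : Module.Finite (X.presheaf.stalk x) (F.presheaf.stalk x) :=
        stalk_finite_of_isCoh F hF x
      exact Groth.Agent.Helper8.Depth.idealDepth_ne_top
        (Groth.Agent.Helper8.Depth.smul_top_ne_top_of_local (X.presheaf.stalk x)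
          (F.presheaf.stalk x)) htop
    refine ⟨⊤, ?_, ⟨(CohB1.support F)ᶜ,
      (Groth.Agent.Helper1.FtGen.isClosed_support F hF.2).isOpen_compl⟩, hxs, ?_⟩
    · rw [htop, ha, ← WithBot.coe_natCast, ← WithBot.coe_add, top_add]
    · intro x' hx' _ _
      have hsub : Subsingleton ↑(F.presheaf.stalk x') := not_not.mp hx'
      exact Groth.Agent.Helper8.Depth.depth_eq_top_of_subsingleton _ _
  · obtain ⟨e, he⟩ := ENat.ne_top_iff_exists.mp hfin
    have hpx : ((LocCoh.depth ↑(X.presheaf.stalk x) ↑(F.presheaf.stalk x) : ℕ∞) : WithBot ℕ∞) +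
        topologicalKrullDim ↥(closure ({x} : Set X)) = ((e + a : ℕ) : WithBot ℕ∞) := by
      rw [← he, ha, WithBot.coe_natCast, Nat.cast_add]
    refine ⟨((e + a : ℕ) : ℕ∞), ?_, ⟨{x' : X | ((e + a : ℕ) : WithBot ℕ∞) ≤
        ((LocCoh.depth ↑(X.presheaf.stalk x') ↑(F.presheaf.stalk x') : ℕ∞) : WithBot ℕ∞) +
          topologicalKrullDim ↥(closure ({x'} : Set X))}, hopen (e + a)⟩, ?_, ?_⟩
    · rw [hpx, WithBot.coe_natCast]
    · show ((e + a : ℕ) : WithBot ℕ∞) ≤ _
      rw [hpx]
    · intro x' hx'U hx'cl hx'c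
      have hx'U' : ((e + a : ℕ) : WithBot ℕ∞) ≤
        ((LocCoh.depth ↑(X.presheaf.stalk x') ↑(F.presheaf.stalk x') : ℕ∞) : WithBot ℕ∞) +
          topologicalKrullDim ↥(closure ({x'} : Set X)) := hx'U
      have hdim0 : topologicalKrullDim ↥(closure ({x'} : Set X)) = 0 := by
        rw [Groth.Agent.Lib.Helper4.FibDim4.dim_closure_singleton X x',
          AlgebraicGeometry.Scheme.height_of_isClosed hx'c]
        rfl
      rw [hdim0, add_zero] at hx'U'
      have hnot : ¬ (((e + a + 1 : ℕ) : ℕ∞) ≤
          LocCoh.depth ↑(X.presheaf.stalk x') ↑(F.presheaf.stalk x')) := by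
        intro hle
        have hmem : x' ∈ {x' : X | ((e + a + 1 : ℕ) : WithBot ℕ∞) ≤
            ((LocCoh.depth ↑(X.presheaf.stalk x') ↑(F.presheaf.stalk x') : ℕ∞) : WithBot ℕ∞) +
              topologicalKrullDim ↥(closure ({x'} : Set X))} := by
          show ((e + a + 1 : ℕ) : WithBot ℕ∞) ≤ _
          rw [hdim0, add_zero, ← WithBot.coe_natCast]
          exact WithBot.coe_le_coe.mpr hle
        have hsp : x ⤳ x' := specializes_iff_mem_closure.mpr hx'cl
        have hxmem := hsp.mem_open (hopen (e + a + 1)) hmem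
        have hxmem' : ((e + a + 1 : ℕ) : WithBot ℕ∞) ≤
            ((LocCoh.depth ↑(X.presheaf.stalk x) ↑(F.presheaf.stalk x) : ℕ∞) : WithBot ℕ∞) +
              topologicalKrullDim ↥(closure ({x} : Set X)) := hxmem
        rw [hpx] at hxmem'
        have : e + a + 1 ≤ e + a := by exact_mod_cast hxmem'
        omega
      rw [← WithBot.coe_natCast, WithBot.coe_le_coe] at hx'U'
      rcases eq_or_ne (LocCoh.depth ↑(X.presheaf.stalk x') ↑(F.presheaf.stalk x')) ⊤ with hD | hD
      · exfalso
        apply hnot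
        rw [hD]
        exact le_top
      · obtain ⟨k, hk⟩ := ENat.ne_top_iff_exists.mp hD
        rw [← hk] at hx'U' hnot ⊢
        have h1 : e + a ≤ k := by exact_mod_cast hx'U'
        have h2' : ¬ (e + a + 1 ≤ k) := by
          intro h
          apply hnot
          exact_mod_cast h
        have h3' : k = e + a := by omega
        rw [h3']

/-- The rectified depth is the unique common value of the depth at the closed points, near the
given point, of its closure. -/
theorem jac_unique {X S : Scheme.{u}} [IsLocallyNoetherian S] [JacobsonSpace S]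
    (hreg : ∀ s : S, IsRegularLocalRing ↑(S.presheaf.stalk s))
    (h3 : ∀ S' ∈ irreducibleComponents (S : Type u), ∀ s ∈ S', IsClosed ({s} : Set S) →
      topologicalKrullDim (↥S' : Type u) = topologicalKrullDim ↥{t : S | t ∈ S' ∧ t ⤳ s})
    (g : X ⟶ S) [LocallyOfFiniteType g] (F : X.Modules) (hF : Coh.IsCoh F) (x : X) (n : ℕ∞) :
    (∃ U : X.Opens, x ∈ U ∧ ∀ x' : ↥U, (x' : X) ∈ closure ({x} : Set X) →
        IsClosed ({x'} : Set ↥U) →
        LocCoh.depth ↑(X.presheaf.stalk (x' : X)) ↑(F.presheaf.stalk (x' : X)) = n) ↔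
      ((n : WithBot ℕ∞) =
        ((LocCoh.depth ↑(X.presheaf.stalk x) ↑(F.presheaf.stalk x) : ℕ∞) : WithBot ℕ∞) +
          topologicalKrullDim ↥(closure ({x} : Set X))) := by
  haveI : JacobsonSpace X := LocallyOfFiniteType.jacobsonSpace g
  obtain ⟨N, hN, U₀, hxU₀, hU₀⟩ := jac_exists_nhd hreg h3 g F hF x
  have hclosed : ∀ (U : X.Opens) (x' : ↥U), IsClosed ({x'} : Set ↥U) ↔
      IsClosed ({(x' : X)} : Set X) := by
    intro U x'
    have h1 := (U.isOpen.isOpenEmbedding_subtypeVal).preimage_closedPoints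
    have h2 := Set.ext_iff.mp h1 x'
    exact h2.symm
  constructor
  · rintro ⟨U, hxU, hU⟩
    obtain ⟨y, ⟨⟨hyU, hyU₀⟩, hycl⟩, hyc⟩ := nonempty_inter_closedPoints
      (Z := ((U : Set X) ∩ (U₀ : Set X)) ∩ closure ({x} : Set X))
      ⟨x, ⟨hxU, hxU₀⟩, subset_closure (Set.mem_singleton x)⟩
      ((U.isOpen.inter U₀.isOpen).isLocallyClosed.inter isClosed_closure.isLocallyClosed)
    have hyc' : IsClosed ({y} : Set X) := hyc
    have e1 := hU ⟨y, hyU⟩ hycl ((hclosed U ⟨y, hyU⟩).mpr hyc')
    have e2 := hU₀ y hyU₀ hycl hyc'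
    have e3 : n = N := by
      rw [← e1]; exact e2
    rw [e3]; exact hN
  · intro hn
    have e3 : n = N := by
      have : (n : WithBot ℕ∞) = (N : WithBot ℕ∞) := hn.trans hN.symm
      exact WithBot.coe_injective this
    refine ⟨U₀, hxU₀, fun x' hx'cl hx'c => ?_⟩
    rw [e3]
    exact hU₀ x'.1 x'.2 hx'cl ((hclosed U₀ x').mp hx'c)

end Groth.Agent.Helper7.RectDepth
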